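import Mathlib
import Cfsg.Agent.Lib.Helper31.CTI.Defs
import Cfsg.Agent.Lib.Helper24.CyclicSylow

/-!
# CTI-[A-NILSTRUCT] (helper49): nilpotent groups with cyclic or quaternion Sylow subgroups
-/

set_option autoImplicit false
set_option linter.style.haveILetI false

namespace Cfsg.Agent.Lib.Helper49.CTIAux

/-- a Sylow `q`-subgroup isomorphic to a generalised quaternion group forces `q = 2` -/
theorem prime_eq_two_of_quaternion {E : Type*} [Group E] [Finite E] (q : ℕ) [hq : Fact q.Prime]
    (Q : Sylow q E) (n : ℕ) (e : Q ≃* QuaternionGroup (2 ^ n)) : q = 2 := by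
  have hcard : Nat.card Q = 4 * 2 ^ n := by
    rw [Nat.card_congr e.toEquiv, Nat.card_eq_fintype_card, QuaternionGroup.card]
  obtain ⟨k, hk⟩ := (Q.2).exists_card_eq
  rw [hcard] at hk
  have h2 : 2 ∣ q ^ k := by
    rw [← hk]
    exact Dvd.dvd.mul_right (by norm_num) _
  have := Nat.Prime.dvd_of_dvd_pow Nat.prime_two h2
  exact ((Nat.prime_dvd_prime_iff_eq Nat.prime_two hq.out).mp this).symm

/-- a quaternion Sylow subgroup which is not cyclic has parameter `n ≥ 1` -/
theorem one_le_of_not_cyclic {Q : Type*} [Group Q] (n : ℕ) (e : Q ≃* QuaternionGroup (2 ^ n))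
    (hQ : ¬ IsCyclic Q) : 1 ≤ n := by
  by_contra h
  have hn : n = 0 := by omega
  subst hn
  apply hQ
  have : IsCyclic (QuaternionGroup (2 ^ 0)) := by
    rw [pow_zero]
    exact QuaternionGroup.quaternionGroup_one_isCyclic
  exact isCyclic_of_surjective e.symm e.symm.surjective

end Cfsg.Agent.Lib.Helper49.CTIAux

namespace Cfsg.Agent.Lib.Helper31.CTI

open Cfsg.Agent.Lib.Helper49.CTIAux

/-- [A-NILSTRUCT] (Mathlib only.) -/
theorem nilpotent_structure {E : Type*} [Group E] [Finite E] (hnil : Group.IsNilpotent E)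
    (hsyl : ∀ (q : ℕ) [Fact q.Prime] (Q : Sylow q E),
      IsCyclic Q ∨ ∃ n : ℕ, Nonempty (Q ≃* QuaternionGroup (2 ^ n))) :
    IsCyclic E ∨ ∃ m n : ℕ, Odd m ∧ 1 ≤ n ∧
      Nonempty (E ≃* Multiplicative (ZMod m) × QuaternionGroup (2 ^ n)) := by
  classical
  by_cases hall : ∀ (q : ℕ) [Fact q.Prime] (Q : Sylow q E), IsCyclic Q
  · left
    haveI := hnil
    exact Cfsg.Agent.Lib.Helper24.isCyclic_of_nilpotent_of_sylow_cyclic (fun p _ P => hall p P)
  right
  push Not at hall
  obtain ⟨q, hq, Q, hQ⟩ := hall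
  obtain ⟨n, ⟨e⟩⟩ := (hsyl q Q).resolve_left hQ
  have hn : 1 ≤ n := one_le_of_not_cyclic n e hQ
  have hq2 : q = 2 := prime_eq_two_of_quaternion q Q n e
  subst hq2
  -- the Sylow 2-subgroup is normal
  have hnormal : ∀ (p : ℕ) [Fact p.Prime] (P : Sylow p E), (P : Subgroup E).Normal :=
    ((Group.isNilpotent_of_finite_tfae (G := E)).out 0 3).mp hnil
  haveI hSn : (Q : Subgroup E).Normal := hnormal 2 Q
  have hcardS : Nat.card Q = 4 * 2 ^ n := by
    rw [Nat.card_congr e.toEquiv, Nat.card_eq_fintype_card, QuaternionGroup.card]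
  -- the complement
  obtain ⟨O, hO⟩ := Subgroup.exists_right_complement'_of_coprime (N := (Q : Subgroup E)) Q.card_coprime_index
  have hOidx : O.index = Nat.card Q := hO.index_eq_card
  have hcardO : Nat.card O = (Q : Subgroup E).index := by
    have h1 := hO.card_mul_card
    have h2 := (Q : Subgroup E).card_mul_index
    have hpos : 0 < Nat.card Q := Nat.card_pos
    exact Nat.eq_of_mul_eq_mul_left hpos (h1.trans h2.symm)
  have hcop : (Nat.card O).Coprime (Nat.card Q) := by
    rw [hcardO]
    exact Q.card_coprime_index.symm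
  have hOodd : Odd (Nat.card O) := by
    rw [← Nat.not_even_iff_odd]
    intro hev
    have h2 : 2 ∣ Nat.gcd (Nat.card O) (Nat.card Q) :=
      Nat.dvd_gcd hev.two_dvd (by rw [hcardS]; exact Dvd.dvd.mul_right (by norm_num) _)
    rw [hcop] at h2
    omega
  haveI hOn : O.Normal := by
    have htopnil : Group.IsNilpotent (⊤ : Subgroup E) := inferInstance
    apply Cfsg.Agent.Lib.Helper24.normal_of_hall_le_nilpotent (⊤ : Subgroup E) O htopnil le_top
    rw [Subgroup.relIndex_top_right, hOidx]
    exact hcop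
  -- `O` is cyclic
  have hOcyc : IsCyclic O := by
    haveI : Group.IsNilpotent O := inferInstance
    apply Cfsg.Agent.Lib.Helper24.isCyclic_of_nilpotent_of_sylow_cyclic
    intro p hp P
    have hPp : IsPGroup p ((P : Subgroup O).map O.subtype) := P.2.map _
    obtain ⟨P', hP'⟩ := hPp.exists_le_sylow
    have himg : IsCyclic ((P : Subgroup O).map O.subtype) := by
      rcases hsyl p P' with hc | ⟨n', ⟨e'⟩⟩
      · exact Subgroup.isCyclic_of_le hP'
      · have hp2 : p = 2 := prime_eq_two_of_quaternion p P' n' e'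
        subst hp2
        -- a 2-subgroup of the odd-order group `O` is trivial
        have hcardP : Nat.card (P : Subgroup O) = 1 := by
          obtain ⟨k, hk⟩ := P.2.exists_card_eq
          have hdvd : Nat.card (P : Subgroup O) ∣ Nat.card O := Subgroup.card_subgroup_dvd_card _
          rw [hk] at hdvd ⊢
          rcases Nat.eq_zero_or_pos k with h0 | h0
          · rw [h0, pow_zero]
          · exfalso
            have : 2 ∣ Nat.card O := dvd_trans (dvd_pow_self 2 (by omega)) hdvd
            exact (Nat.not_even_iff_odd.mpr hOodd) (even_iff_two_dvd.mpr this)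
        have hbot : (P : Subgroup O) = ⊥ := Subgroup.card_eq_one.mp hcardP
        rw [hbot, Subgroup.map_bot]
        infer_instance
    exact isCyclic_of_injective
      ((P : Subgroup O).equivMapOfInjective O.subtype O.subtype_injective).toMonoidHom
      ((P : Subgroup O).equivMapOfInjective O.subtype O.subtype_injective).injective
  -- the product decomposition
  have hcomm : ∀ (s : Q) (o : O), (s : E) * (o : E) = (o : E) * (s : E) := fun s o =>
    Subgroup.commute_of_normal_of_disjoint (Q : Subgroup E) O hSn hOn hO.disjoint s o s.2 o.2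
  let φ : ↥(Q : Subgroup E) × ↥O →* E :=
    { toFun := fun x => (x.1 : E) * (x.2 : E)
      map_one' := by simp
      map_mul' := by
        rintro ⟨s1, o1⟩ ⟨s2, o2⟩
        show ((s1 * s2 : Q) : E) * ((o1 * o2 : O) : E) = (s1 : E) * (o1 : E) * ((s2 : E) * (o2 : E))
        rw [Subgroup.coe_mul, Subgroup.coe_mul, mul_assoc, mul_assoc, ← mul_assoc (s2 : E), hcomm s2 o1,
          mul_assoc] }
  have hbij : Function.Bijective φ := hO
  let ψ : ↥(Q : Subgroup E) × ↥O ≃* E := MulEquiv.ofBijective φ hbij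
  refine ⟨Nat.card O, n, hOodd, hn, ⟨?_⟩⟩
  exact ψ.symm.trans (MulEquiv.prodComm.trans (MulEquiv.prodCongr (zmodCyclicMulEquiv hOcyc).symm e))

end Cfsg.Agent.Lib.Helper31.CTI
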