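import Mathlib
import Cfsg.Agent.Lib.Helper31.CTI.Defs

/-!
# CTI-[A-Q8] (helper49): `A × Q_{4k}` is not a CTI-group for `k ≥ 3`
-/

set_option autoImplicit false

namespace Cfsg.Agent.Lib.Helper31.CTI

/-- [A-Q8] (Mathlib only.) `x = (1, xa 0)`, `g = (1, a 1)`: `(1, a k) ∈ C(x) ∩ g C(x) g⁻¹` but
`g x g⁻¹ ∉ C(x)` when `k ≥ 3`. -/
theorem not_cti_prod_quaternion {A : Type*} [Group A] (k : ℕ) (hk : 3 ≤ k) :
    ¬ IsCTI (A × QuaternionGroup k) := by
  intro hG
  have h4 : (4 : ZMod (2 * k)) ≠ 0 := by
    intro h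
    have h' : ((4 : ℕ) : ZMod (2 * k)) = 0 := by exact_mod_cast h
    rw [ZMod.natCast_eq_zero_iff] at h'
    have := Nat.le_of_dvd (by norm_num) h'
    omega
  have hk0 : ((k : ℕ) : ZMod (2 * k)) ≠ 0 := by
    intro h
    rw [ZMod.natCast_eq_zero_iff] at h
    have := Nat.le_of_dvd (by omega) h
    omega
  set x : A × QuaternionGroup k := (1, QuaternionGroup.xa 0) with hx
  set g : A × QuaternionGroup k := (1, QuaternionGroup.a 1) with hg
  set y : A × QuaternionGroup k := (1, QuaternionGroup.a (k : ZMod (2 * k))) with hy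
  have hginv : g⁻¹ = (1, QuaternionGroup.a (-1)) := by
    rw [hg]
    apply Prod.ext
    · simp
    · show (QuaternionGroup.a 1)⁻¹ = QuaternionGroup.a (-1)
      rfl
  -- `g x g⁻¹ = (1, xa (-2))`
  have hgx : g * x * g⁻¹ = (1, QuaternionGroup.xa (-2)) := by
    rw [hginv, hg, hx]
    apply Prod.ext
    · simp
    · show QuaternionGroup.a 1 * QuaternionGroup.xa 0 * QuaternionGroup.a (-1) = QuaternionGroup.xa (-2)
      rw [QuaternionGroup.a_mul_xa, QuaternionGroup.xa_mul_a]
      congr 1
      ring
  have hxmem : x ∈ Subgroup.centralizer ({x} : Set (A × QuaternionGroup k)) := by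
    rw [Subgroup.mem_centralizer_iff]
    intro h hh
    rw [Set.mem_singleton_iff] at hh
    rw [hh]
  have hgxnot : g * x * g⁻¹ ∉ Subgroup.centralizer ({x} : Set (A × QuaternionGroup k)) := by
    rw [Subgroup.mem_centralizer_iff]
    intro h
    have h1 := h x (Set.mem_singleton x)
    rw [hgx, hx] at h1
    have h2 := congrArg Prod.snd h1
    change QuaternionGroup.xa 0 * QuaternionGroup.xa (-2) = QuaternionGroup.xa (-2) * QuaternionGroup.xa 0 at h2
    rw [QuaternionGroup.xa_mul_xa, QuaternionGroup.xa_mul_xa] at h2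
    have h3 := QuaternionGroup.a.inj h2
    apply h4
    linear_combination -h3
  have hgN : g ∉ Subgroup.normalizer
      ((Subgroup.centralizer ({x} : Set (A × QuaternionGroup k)) : Subgroup _) : Set (A × QuaternionGroup k)) := by
    intro h
    rw [Subgroup.mem_normalizer_iff] at h
    exact hgxnot ((h x).mp hxmem)
  have hycent : ∀ z : A × QuaternionGroup k, z * y = y * z := by
    rintro ⟨z1, z2⟩
    rw [hy]
    apply Prod.ext
    · simp
    · show z2 * QuaternionGroup.a (k : ZMod (2 * k)) = QuaternionGroup.a (k : ZMod (2 * k)) * z2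
      cases z2 with
      | a i => rw [QuaternionGroup.a_mul_a, QuaternionGroup.a_mul_a, add_comm]
      | xa i =>
        rw [QuaternionGroup.xa_mul_a, QuaternionGroup.a_mul_xa]
        congr 1
        have : ((k : ℕ) : ZMod (2 * k)) + (k : ZMod (2 * k)) = 0 := by
          have : ((2 * k : ℕ) : ZMod (2 * k)) = 0 := ZMod.natCast_self _
          push_cast at this
          linear_combination this
        linear_combination this
  have hymem : y ∈ Subgroup.centralizer ({x} : Set (A × QuaternionGroup k)) := by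
    rw [Subgroup.mem_centralizer_iff]
    intro h hh
    exact hycent h
  have hgy : g * y * g⁻¹ = y := by
    rw [hycent g, mul_assoc, mul_inv_cancel, mul_one]
  have := hG x g hgN y hymem (by rw [hgy]; exact hymem)
  rw [hy] at this
  have h2 := congrArg Prod.snd this
  change QuaternionGroup.a (k : ZMod (2 * k)) = 1 at h2
  rw [QuaternionGroup.one_def] at h2
  exact hk0 (QuaternionGroup.a.inj h2)

end Cfsg.Agent.Lib.Helper31.CTI
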