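import Mathlib
import Cfsg.Agent.Lib.Helper31.CTI.Defs
import Cfsg.Agent.Lib.Helper71.CTI.Sub
import Cfsg.Agent.Lib.Helper49.CTI.AQ8
import Cfsg.Agent.Lib.Helper49.CTI.ANilStruct

/-!
# CTI-[FITCASE] in `_of` form (helper49, hedge): the assembly of Part 2 from [A-SYL] and [A-COMPL]
-/

set_option autoImplicit false

namespace Cfsg.Agent.Lib.Helper49.CTIAux

open Cfsg Cfsg.Agent.Lib.Helper31.CTI

variable {G : Type*} [Group G]

/-- [FITCASE] with the two not yet landed leaves [A-SYL], [A-COMPL] as hypotheses (verbatim sheet statements). -/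
theorem fitting_case_of [Finite G]
    (hASyl : ∀ (_ : IsCTI G) (K : Subgroup G) (_ : K.Normal) (_ : Group.IsNilpotent K) (_ : K ≠ ⊥),
      ∃ (p : ℕ) (_ : Fact p.Prime) (P : Sylow p G), (P : Subgroup G) ≠ ⊥ ∧ (P : Subgroup G).Normal)
    (hACompl : ∀ (_ : IsCTI G) (_ : ¬ Group.IsNilpotent G) (p : ℕ) [Fact p.Prime] (P : Sylow p G)
      (_ : (P : Subgroup G) ≠ ⊥) (_ : (P : Subgroup G).Normal),
      ∃ E : Subgroup G, Cfsg.IsFrobeniusComplement E ∧ Group.IsNilpotent E ∧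
        ∀ (q : ℕ) [Fact q.Prime] (Q : Sylow q E),
          IsCyclic Q ∨ ∃ n : ℕ, Nonempty (Q ≃* QuaternionGroup (2 ^ n)))
    (hG : IsCTI G) (hnn : ¬ Group.IsNilpotent G) (K : Subgroup G)
    (hKn : K.Normal) (hKnil : Group.IsNilpotent K) (hK : K ≠ ⊥) :
    ∃ H : Subgroup G, Cfsg.IsFrobeniusComplement H ∧
      (IsCyclic H ∨ ∃ m : ℕ, Odd m ∧
        Nonempty (H ≃* Multiplicative (ZMod m) × QuaternionGroup 2)) := by
  obtain ⟨p, hp, P, hP1, hPn⟩ := hASyl hG K hKn hKnil hK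
  obtain ⟨E, hEfrob, hEnil, hEsyl⟩ := hACompl hG hnn p P hP1 hPn
  refine ⟨E, hEfrob, ?_⟩
  rcases nilpotent_structure hEnil hEsyl with hc | ⟨m, n, hm, hn, ⟨e⟩⟩
  · exact Or.inl hc
  · right
    have hEcti : IsCTI E := cti_subgroup hG E
    have hcti := cti_of_mulEquiv e hEcti
    have hlt : 2 ^ n < 3 := by
      by_contra h
      exact not_cti_prod_quaternion (2 ^ n) (by omega) hcti
    have hn1 : n = 1 := by
      rcases Nat.lt_or_ge n 2 with h | h
      · omega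
      · exfalso
        have : 2 ^ 2 ≤ 2 ^ n := Nat.pow_le_pow_right (by norm_num) h
        omega
    subst hn1
    exact ⟨m, hm, ⟨e⟩⟩

end Cfsg.Agent.Lib.Helper49.CTIAux
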